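import Groth.Prelude.Def_SGA6
import Mathlib.CategoryTheory.Abelian.Refinements
import Mathlib.Algebra.Homology.ShortComplex.HomologicalComplex

/-!
The resolution theorem for Grothendieck groups.
-/

set_option autoImplicit false

universe v u

open CategoryTheory CategoryTheory.Limits

namespace Groth.Agent.KResol

variable {C : Type u} [Category.{v} C] [Abelian C]

/-- Pulling back a short exact sequence. -/
theorem pb_shortExact {K L X Z P : C} {i : K ⟶ L} {π : L ⟶ X} {w : i ≫ π = 0}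
    (hS : (ShortComplex.mk i π w).ShortExact) {a : Z ⟶ X} {p : P ⟶ L} {q : P ⟶ Z}
    (hP : IsPullback p q π a) :
    ∃ (j : K ⟶ P) (w' : j ≫ q = 0), (ShortComplex.mk j q w').ShortExact := by
  have : Mono i := hS.mono_f
  have : Epi π := hS.epi_g
  let j := hP.lift i 0 (by rw [w, zero_comp])
  have hjp : j ≫ p = i := hP.lift_fst _ _ _
  have hjq : j ≫ q = 0 := hP.lift_snd _ _ _
  have hj : Mono j := by
    have : Mono (j ≫ p) := by rw [hjp]; infer_instance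
    exact mono_of_mono j p
  have hq : Epi q := by
    rw [← hP.isoPullback_hom_snd]
    infer_instance
  refine ⟨j, hjq, ShortComplex.ShortExact.mk' (ShortComplex.exact_of_f_is_kernel _ ?_) hj hq⟩
  refine KernelFork.IsLimit.ofι' _ _ fun x hx => ?_
  have hx' : x ≫ q = 0 := hx
  refine ⟨hS.exact.lift (x ≫ p) (by rw [Category.assoc, hP.w, reassoc_of% hx', zero_comp]),
    hP.hom_ext ?_ ?_⟩
  · rw [Category.assoc, hjp]; exact hS.exact.lift_f _ _
  · rw [Category.assoc, hjq, comp_zero, hx']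

/-- The kernel of an epimorphism composed with the quotient map. -/
theorem pb_comp_shortExact {X₁ X₂ X₃ L P : C} {f : X₁ ⟶ X₂} {g : X₂ ⟶ X₃} {w : f ≫ g = 0}
    (hS : (ShortComplex.mk f g w).ShortExact) {π : L ⟶ X₂} [Epi π] {p : P ⟶ L} {q : P ⟶ X₁}
    (hP : IsPullback p q π f) :
    ∃ (w' : p ≫ π ≫ g = 0), (ShortComplex.mk p (π ≫ g) w').ShortExact := by
  have : Mono f := hS.mono_f
  have : Epi g := hS.epi_g
  have w' : p ≫ π ≫ g = 0 := by rw [← Category.assoc, hP.w, Category.assoc, w, comp_zero]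
  have hp : Mono p := ⟨fun r s h => hP.hom_ext h (by
    rw [← cancel_mono f, Category.assoc, Category.assoc, ← hP.w, reassoc_of% h])⟩
  refine ⟨w', ShortComplex.ShortExact.mk' (ShortComplex.exact_of_f_is_kernel _ ?_) hp (epi_comp π g)⟩
  refine KernelFork.IsLimit.ofι' _ _ fun x hx => ?_
  have hx' : x ≫ π ≫ g = 0 := hx
  exact ⟨hP.lift x (hS.exact.lift (x ≫ π) (by rw [Category.assoc]; exact hx'))
    (hS.exact.lift_f _ _).symm, hP.lift_fst _ _ _⟩

theorem shortExact_kernel {L X : C} (π : L ⟶ X) [Epi π] :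
    (ShortComplex.mk (kernel.ι π) π (kernel.condition π)).ShortExact :=
  ShortComplex.ShortExact.mk' (ShortComplex.exact_of_f_is_kernel _ (kernelIsKernel π)) inferInstance ‹_›

variable (P₀ P₁ : ObjectProperty C)

/-- The hypotheses of the resolution theorem used by the induction. -/
structure Hyp : Prop where
  iso₀ : P₀.IsClosedUnderIsomorphisms
  hle : ∀ X, P₀ X → P₁ X
  hext₀ : ∀ S : ShortComplex C, S.ShortExact → P₀ S.X₁ → P₀ S.X₃ → P₀ S.X₂
  hext₁ : ∀ S : ShortComplex C, S.ShortExact → P₁ S.X₁ → P₁ S.X₃ → P₁ S.X₂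
  h1₀ : ∀ S : ShortComplex C, S.ShortExact → P₀ S.X₂ → P₀ S.X₃ → P₀ S.X₁
  h1₁ : ∀ S : ShortComplex C, S.ShortExact → P₁ S.X₂ → P₁ S.X₃ → P₁ S.X₁
  h2 : ∀ (A B D : C) (u : A ⟶ B) (v : D ⟶ B), Epi u → P₁ A → P₁ B → P₁ D →
      ∃ (L : C) (u' : L ⟶ D) (v' : L ⟶ A), P₀ L ∧ Epi u' ∧ u' ≫ v = v' ≫ u

/-- Objects with a resolution of length `n`. -/
def Res : ℕ → ObjectProperty C
  | 0 => P₀
  | n + 1 => fun X => P₁ X ∧ ∃ (K L : C) (i : K ⟶ L) (π : L ⟶ X) (w : i ≫ π = 0),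
      (ShortComplex.mk i π w).ShortExact ∧ P₀ L ∧ Res n K

variable {P₀ P₁}

theorem res_le (H : Hyp P₀ P₁) : ∀ n X, Res P₀ P₁ n X → P₁ X
  | 0, X, h => H.hle X h
  | _ + 1, _, h => h.1

theorem zero_mem₀ (H : Hyp P₀ P₁) {X : C} (hX : P₀ X) : P₀ (kernel (𝟙 X)) :=
  H.h1₀ _ (shortExact_kernel (𝟙 X)) hX hX

theorem res_succ (H : Hyp P₀ P₁) : ∀ n X, Res P₀ P₁ n X → Res P₀ P₁ (n + 1) X
  | 0, X, h => ⟨H.hle X h, _, X, _, 𝟙 X, _, shortExact_kernel (𝟙 X), h, zero_mem₀ H h⟩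
  | n + 1, _, ⟨h, K, L, i, π, w, hS, hL, hK⟩ => ⟨h, K, L, i, π, w, hS, hL, res_succ H n K hK⟩

theorem res_mono (H : Hyp P₀ P₁) {X : C} {m n : ℕ} (hmn : m ≤ n) (h : Res P₀ P₁ m X) :
    Res P₀ P₁ n X := by
  induction n, hmn using Nat.le_induction with
  | base => exact h
  | succ n _ ih => exact res_succ H n X ih

theorem res_ker (H : Hyp P₀ P₁) : ∀ n (S : ShortComplex C), S.ShortExact → Res P₀ P₁ n S.X₂ → P₀ S.X₃ →
    Res P₀ P₁ n S.X₁
  | 0, S, hS, h, h3 => H.h1₀ S hS h h3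
  | n + 1, S, hS, ⟨h, K, L, i, π, w, hT, hL, hK⟩, h3 => by
    have := hT.epi_g
    obtain ⟨w₁, hU⟩ := pb_comp_shortExact hS (IsPullback.of_hasPullback π S.f)
    obtain ⟨j, w₂, hV⟩ := pb_shortExact hT (IsPullback.of_hasPullback π S.f)
    exact ⟨H.h1₁ S hS h (H.hle _ h3), K, _, j, _, w₂, hV, H.h1₀ _ hU hL h3, hK⟩

theorem res_cover_kernel (H : Hyp P₀ P₁) (n : ℕ)
    (hext : ∀ S : ShortComplex C, S.ShortExact → Res P₀ P₁ n S.X₁ → Res P₀ P₁ n S.X₃ → Res P₀ P₁ n S.X₂)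
    {X K' L' : C} (hX : Res P₀ P₁ (n + 1) X) {i' : K' ⟶ L'} {π' : L' ⟶ X} {w' : i' ≫ π' = 0}
    (hS' : (ShortComplex.mk i' π' w').ShortExact) (hL' : P₀ L') : Res P₀ P₁ n K' := by
  obtain ⟨-, K, L, i, π, w, hS, hL, hK⟩ := hX
  have hP := IsPullback.of_hasPullback π π'
  obtain ⟨j, w₁, hA⟩ := pb_shortExact hS hP
  obtain ⟨j', w₂, hB⟩ := pb_shortExact hS' hP.flip
  have hM : Res P₀ P₁ n (pullback π π') := hext _ hA hK (res_mono H (Nat.zero_le n) hL')
  exact res_ker H n _ hB hM hL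

theorem biprod_shortExact (A B : C) :
    (ShortComplex.mk (biprod.inl : A ⟶ A ⊞ B) biprod.snd biprod.inl_snd).ShortExact :=
  (ShortComplex.Splitting.ofHasBinaryBiproduct A B).shortExact

/-- Horseshoe. -/
theorem horseshoe (H : Hyp P₀ P₁) {S : ShortComplex C} (hS : S.ShortExact) (h₂ : P₁ S.X₂) (h₃ : P₁ S.X₃)
    {K' L' L'' : C} {i' : K' ⟶ L'} {π' : L' ⟶ S.X₁} {w' : i' ≫ π' = 0}
    (hS' : (ShortComplex.mk i' π' w').ShortExact) (hL' : P₀ L') (π'' : L'' ⟶ S.X₃) (hπ'' : Epi π'')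
    (hL'' : P₀ L'') :
    ∃ (L₃ K₃ M K : C) (i₃ : K₃ ⟶ L₃) (π₃ : L₃ ⟶ S.X₃) (w₃ : i₃ ≫ π₃ = 0)
      (j : L' ⟶ M) (q : M ⟶ L₃) (w₄ : j ≫ q = 0)
      (i : K ⟶ M) (π : M ⟶ S.X₂) (w : i ≫ π = 0)
      (a : K' ⟶ K) (b : K ⟶ K₃) (w₅ : a ≫ b = 0),
      (ShortComplex.mk i₃ π₃ w₃).ShortExact ∧ P₀ L₃ ∧ (ShortComplex.mk j q w₄).ShortExact ∧ P₀ M ∧
        (ShortComplex.mk i π w).ShortExact ∧ (ShortComplex.mk a b w₅).ShortExact := by
  obtain ⟨L₃, e, l, hL₃, he, hel⟩ := H.h2 S.X₂ S.X₃ L'' S.g π'' hS.epi_g h₂ h₃ (H.hle _ hL'')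
  let c : L₃ ⟶ S.X₃ := e ≫ π''
  have hc : Epi c := epi_comp e π''
  have hM : P₀ (L' ⊞ L₃) := H.hext₀ _ (biprod_shortExact L' L₃) hL' hL₃
  let Φ : L' ⊞ L₃ ⟶ S.X₂ := biprod.desc (π' ≫ S.f) l
  have hΦg : Φ ≫ S.g = biprod.snd ≫ c := by
    apply biprod.hom_ext'
    · simp [Φ, c]
    · simp [Φ, c, hel]
  have : Epi π' := hS'.epi_g
  have : Mono S.f := hS.mono_f
  have : Mono i' := hS'.mono_f
  have : Epi S.g := hS.epi_g
  have hΦ : Epi Φ := Preadditive.epi_of_cancel_zero _ fun {T} t ht => by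
    have h1 : S.f ≫ t = 0 := by
      rw [← cancel_epi π', comp_zero, ← Category.assoc]
      have := biprod.inl ≫= ht
      rwa [biprod.inl_desc_assoc, comp_zero] at this
    have h2 : l ≫ t = 0 := by
      have := biprod.inr ≫= ht
      rwa [biprod.inr_desc_assoc, comp_zero] at this
    rw [← hS.exact.g_desc t h1] at h2 ⊢
    rw [← Category.assoc, ← hel] at h2
    change c ≫ _ = 0 at h2
    rw [(cancel_epi c).1 (h2.trans comp_zero.symm), comp_zero]
  let a : K' ⟶ kernel Φ := kernel.lift Φ (i' ≫ biprod.inl) (by simp [Φ, reassoc_of% w'])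
  let b : kernel Φ ⟶ kernel c := kernel.lift c (kernel.ι Φ ≫ biprod.snd) (by
    rw [Category.assoc, ← hΦg, kernel.condition_assoc, zero_comp])
  have hai : a ≫ kernel.ι Φ = i' ≫ biprod.inl := kernel.lift_ι _ _ _
  have hbi : b ≫ kernel.ι c = kernel.ι Φ ≫ biprod.snd := kernel.lift_ι _ _ _
  have w₅ : a ≫ b = 0 := by
    rw [← cancel_mono (kernel.ι c), Category.assoc, hbi, reassoc_of% hai, biprod.inl_snd, comp_zero,
      zero_comp]
  have ha : Mono a := by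
    have : Mono (a ≫ kernel.ι Φ) := by rw [hai]; infer_instance
    exact mono_of_mono a (kernel.ι Φ)
  have hb : Epi b := by
    rw [epi_iff_surjective_up_to_refinements]
    intro A z
    let y : A ⟶ L₃ := z ≫ kernel.ι c
    have hy : (y ≫ l) ≫ S.g = 0 := by
      rw [Category.assoc, ← hel]
      exact (Category.assoc _ _ _).trans (by rw [kernel.condition, comp_zero])
    let m := hS.exact.lift (y ≫ l) hy
    have hm : m ≫ S.f = y ≫ l := hS.exact.lift_f _ _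
    obtain ⟨A', r, hr, y', hy'⟩ := surjective_up_to_refinements_of_epi π' (-m)
    refine ⟨A', r, hr, kernel.lift Φ (biprod.lift y' (r ≫ y)) ?_, ?_⟩
    · rw [biprod.lift_desc, ← Category.assoc, ← hy', Category.assoc, Category.assoc, Preadditive.neg_comp,
        hm, ← Preadditive.comp_add, neg_add_cancel, comp_zero]
    · rw [← cancel_mono (kernel.ι c), Category.assoc, Category.assoc, hbi, kernel.lift_ι_assoc,
        biprod.lift_snd]
  have hex : (ShortComplex.mk a b w₅).Exact := ShortComplex.exact_of_f_is_kernel _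
    (KernelFork.IsLimit.ofι' _ _ fun x hx => by
      have hx' : x ≫ b = 0 := hx
      have h2 : (x ≫ kernel.ι Φ) ≫ biprod.snd = 0 := by
        rw [Category.assoc, ← hbi, reassoc_of% hx', zero_comp]
      have h3 : x ≫ kernel.ι Φ = ((x ≫ kernel.ι Φ) ≫ biprod.fst) ≫ biprod.inl := by
        conv_lhs => rw [← Category.comp_id (x ≫ kernel.ι Φ), ← biprod.total]
        rw [Preadditive.comp_add, ← Category.assoc (x ≫ kernel.ι Φ) biprod.snd, h2, zero_comp, add_zero]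
        simp only [Category.assoc]
      have h4 : ((x ≫ kernel.ι Φ) ≫ biprod.fst) ≫ π' = 0 := by
        rw [← cancel_mono S.f, zero_comp]
        have h5 : (x ≫ kernel.ι Φ) ≫ Φ = 0 := by rw [Category.assoc, kernel.condition, comp_zero]
        rw [h3, Category.assoc, biprod.inl_desc] at h5
        simpa only [Category.assoc] using h5
      refine ⟨hS'.exact.lift _ h4, ?_⟩
      rw [← cancel_mono (kernel.ι Φ), Category.assoc, hai]
      have h6 : hS'.exact.lift _ h4 ≫ i' = (x ≫ kernel.ι Φ) ≫ biprod.fst := hS'.exact.lift_f _ _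
      rw [← Category.assoc, h6]
      exact h3.symm)
  exact ⟨L₃, kernel c, L' ⊞ L₃, kernel Φ, kernel.ι c, c, kernel.condition c, biprod.inl, biprod.snd,
    biprod.inl_snd, kernel.ι Φ, Φ, kernel.condition Φ, a, b, w₅, shortExact_kernel c, hL₃,
    biprod_shortExact L' L₃, hM, shortExact_kernel Φ, ShortComplex.ShortExact.mk' hex ha hb⟩

theorem res_ext (H : Hyp P₀ P₁) : ∀ n (S : ShortComplex C), S.ShortExact → Res P₀ P₁ n S.X₁ →
    Res P₀ P₁ n S.X₃ → Res P₀ P₁ n S.X₂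
  | 0, S, hS, h1, h3 => H.hext₀ S hS h1 h3
  | n + 1, S, hS, ⟨h1, K', L', i', π', w', hS', hL', hK'⟩, h3 => by
    obtain ⟨h3₁, K'', L'', i'', π'', w'', hS'', hL'', hK''⟩ := h3
    have h₂ : P₁ S.X₂ := H.hext₁ S hS h1 h3₁
    obtain ⟨L₃, K₃, M, K, i₃, π₃, w₃, j, q, w₄, i, π, w, a, b, w₅, hT₃, hL₃, hT₄, hM, hT, hT₅⟩ :=
      horseshoe H hS h₂ h3₁ hS' hL' π'' hS''.epi_g hL''
    have hK₃ : Res P₀ P₁ n K₃ := res_cover_kernel H n (res_ext H n)
      ⟨h3₁, K'', L'', i'', π'', w'', hS'', hL'', hK''⟩ hT₃ hL₃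
    exact ⟨h₂, K, M, i, π, w, hT, hM, res_ext H n _ hT₅ hK' hK₃⟩

theorem cl_add (S : ShortComplex C) (hS : S.ShortExact) (h1 : P₀ S.X₁) (h2 : P₀ S.X₂) (h3 : P₀ S.X₃) :
    KZero.clSub P₀ S.X₂ = KZero.clSub P₀ S.X₁ + KZero.clSub P₀ S.X₃ := by
  rw [KZero.clSub, KZero.clSub, KZero.clSub, dif_pos h1, dif_pos h2, dif_pos h3, ← sub_eq_zero,
    ← QuotientAddGroup.mk_add, ← QuotientAddGroup.mk_sub, QuotientAddGroup.eq_zero_iff]
  exact AddSubgroup.subset_closure ⟨S, h1, h2, h3, hS, by abel⟩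

open Classical in
/-- The Euler characteristic of a resolution. -/
noncomputable def phi : ℕ → C → KZero.K0sub P₀
  | 0, X => KZero.clSub P₀ X
  | n + 1, X =>
    if h : Res P₀ P₁ (n + 1) X then
      KZero.clSub P₀ h.2.choose_spec.choose - phi n h.2.choose
    else 0

/-- The properties of `phi`. -/
def Good (P₀ P₁ : ObjectProperty C) (n : ℕ) : Prop :=
  (∀ X, P₀ X → phi (P₀ := P₀) (P₁ := P₁) n X = KZero.clSub P₀ X) ∧
    ∀ S : ShortComplex C, S.ShortExact → Res P₀ P₁ n S.X₁ → Res P₀ P₁ n S.X₂ → Res P₀ P₁ n S.X₃ →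
      phi (P₀ := P₀) (P₁ := P₁) n S.X₂ = phi (P₀ := P₀) (P₁ := P₁) n S.X₁ + phi (P₀ := P₀) (P₁ := P₁) n S.X₃

theorem phi_eq (H : Hyp P₀ P₁) {n : ℕ} (hg : Good P₀ P₁ n) {X K' L' : C}
    (hX : Res P₀ P₁ (n + 1) X) {i' : K' ⟶ L'} {π' : L' ⟶ X} {w' : i' ≫ π' = 0}
    (hS' : (ShortComplex.mk i' π' w').ShortExact) (hL' : P₀ L') :
    phi (P₁ := P₁) (n + 1) X = KZero.clSub P₀ L' - phi (P₁ := P₁) n K' := by
  rw [phi, dif_pos hX]
  obtain ⟨i, π, w, hS, hL, hK⟩ := hX.2.choose_spec.choose_spec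
  generalize hX.2.choose_spec.choose = L at *
  generalize hX.2.choose = K at *
  have hK' := res_cover_kernel H n (res_ext H n) hX hS' hL'
  have hP := IsPullback.of_hasPullback π π'
  obtain ⟨j, w₁, hA⟩ := pb_shortExact hS hP
  obtain ⟨j', w₂, hB⟩ := pb_shortExact hS' hP.flip
  have h0 := fun (Y : C) (hY : P₀ Y) => res_mono H (Nat.zero_le n) (X := Y) hY
  have hM := res_ext H n _ hA hK (h0 _ hL')
  have e1 := hg.2 _ hA hK hM (h0 _ hL')
  have e2 := hg.2 _ hB hK' hM (h0 _ hL)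
  dsimp only at e1 e2
  rw [hg.1 _ hL'] at e1
  rw [hg.1 _ hL, e1] at e2
  rw [sub_eq_sub_iff_add_eq_add, add_comm, ← eq_comm, add_comm, e2]

theorem good (H : Hyp P₀ P₁) : ∀ n, Good P₀ P₁ n
  | 0 => ⟨fun _ _ => rfl, fun S hS h1 h2 h3 => cl_add S hS h1 h2 h3⟩
  | n + 1 => by
    have hg := good H n
    refine ⟨fun X hX => ?_, fun S hS h1 h2 h3 => ?_⟩
    · rw [phi_eq H hg (res_mono H (Nat.zero_le _) hX) (shortExact_kernel (𝟙 X)) hX, hg.1 _ (zero_mem₀ H hX)]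
      have h := cl_add _ (shortExact_kernel (𝟙 X)) (zero_mem₀ H hX) hX hX
      dsimp only at h
      rw [eq_comm, add_eq_right] at h
      rw [h, sub_zero]
    · obtain ⟨h1₁, K', L', i', π', w', hS', hL', hK'⟩ := h1
      obtain ⟨h3₁, K'', L'', i'', π'', w'', hS'', hL'', hK''⟩ := h3
      obtain ⟨L₃, K₃, M, K, i₃, π₃, w₃, j, q, w₄, i, π, w, a, b, w₅, hT₃, hL₃, hT₄, hM, hT, hT₅⟩ :=
        horseshoe H hS h2.1 h3₁ hS' hL' π'' hS''.epi_g hL''
      rw [phi_eq H hg h2 hT hM, phi_eq H hg ⟨h1₁, K', L', i', π', w', hS', hL', hK'⟩ hS' hL',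
        phi_eq H hg ⟨h3₁, K'', L'', i'', π'', w'', hS'', hL'', hK''⟩ hT₃ hL₃]
      have hK₃ := res_cover_kernel H n (res_ext H n)
        ⟨h3₁, K'', L'', i'', π'', w'', hS'', hL'', hK''⟩ hT₃ hL₃
      have e1 := hg.2 _ hT₅ hK' (res_ext H n _ hT₅ hK' hK₃) hK₃
      have e2 := cl_add _ hT₄ hL' hM hL₃
      dsimp only at e1 e2
      rw [e1, e2]
      abel

theorem phi_mono (H : Hyp P₀ P₁) {m n : ℕ} (hmn : m ≤ n) {X : C} (hX : Res P₀ P₁ m X) :
    phi (P₀ := P₀) (P₁ := P₁) n X = phi (P₀ := P₀) (P₁ := P₁) m X := by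
  have key : ∀ m (X : C), Res P₀ P₁ m X →
      phi (P₀ := P₀) (P₁ := P₁) (m + 1) X = phi (P₀ := P₀) (P₁ := P₁) m X := by
    intro m
    induction m with
    | zero => exact fun X hX => ((good H 1).1 X hX).trans ((good H 0).1 X hX).symm
    | succ m ih =>
      intro X hX
      obtain ⟨h, K, L, i, π, w, hS, hL, hK⟩ := hX
      rw [phi_eq H (good H m) ⟨h, K, L, i, π, w, hS, hL, hK⟩ hS hL,
        phi_eq H (good H (m + 1)) ⟨h, K, L, i, π, w, hS, hL, res_succ H m K hK⟩ hS hL, ih K hK]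
  induction n, hmn using Nat.le_induction with
  | base => rfl
  | succ n hn ih => rw [key n X (res_mono H hn hX), ih]

theorem bijective_mapSub (H : Hyp P₀ P₁) (hres : ∀ X, P₁ X → ∃ n, Res P₀ P₁ n X)
    (hle : ∀ X, P₀ X → P₁ X) : Function.Bijective (SGA6.mapSub (𝟭 C) P₀ P₁ hle) := by
  choose N hN using hres
  let ψ₀ : FreeAbelianGroup (Subtype P₁) →+ KZero.K0sub P₀ :=
    FreeAbelianGroup.lift fun X => phi (P₁ := P₁) (N X.1 X.2) X.1
  have hψ₀ : ∀ (X : C) (hX : P₁ X) n, Res P₀ P₁ n X →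
      ψ₀ (FreeAbelianGroup.of ⟨X, hX⟩) = phi (P₀ := P₀) (P₁ := P₁) n X := fun X hX n hn => by
    rw [FreeAbelianGroup.lift_apply_of]
    rcases le_total n (N X hX) with h | h
    · exact phi_mono H h hn
    · exact (phi_mono H h (hN X hX)).symm
  have hker : KZero.relSub P₁ ≤ ψ₀.ker := by
    rw [KZero.relSub, AddSubgroup.closure_le]
    rintro x ⟨S, h1, h2, h3, hS, rfl⟩
    let n := max (N _ h1) (max (N _ h2) (N _ h3))
    have r1 := res_mono H (le_max_left (N _ h1) _) (hN _ h1) (n := n)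
    have r2 := res_mono H (le_trans (le_max_left _ _) (le_max_right (N _ h1) _)) (hN _ h2) (n := n)
    have r3 := res_mono H (le_trans (le_max_right _ _) (le_max_right (N _ h1) _)) (hN _ h3) (n := n)
    rw [SetLike.mem_coe, AddMonoidHom.mem_ker, map_sub, map_sub, hψ₀ _ h1 n r1, hψ₀ _ h2 n r2,
      hψ₀ _ h3 n r3, (good H n).2 S hS r1 r2 r3]
    abel
  let ψ : KZero.K0sub P₁ →+ KZero.K0sub P₀ := QuotientAddGroup.lift _ ψ₀ hker
  have hmap : ∀ X (hX : P₀ X), SGA6.mapSub (𝟭 C) P₀ P₁ hle (QuotientAddGroup.mk (FreeAbelianGroup.of ⟨X, hX⟩)) =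
      QuotientAddGroup.mk (FreeAbelianGroup.of ⟨X, hle X hX⟩) := fun X hX => rfl
  have hleft : ψ.comp (SGA6.mapSub (𝟭 C) P₀ P₁ hle) = AddMonoidHom.id _ := by
    refine QuotientAddGroup.addMonoidHom_ext _ (FreeAbelianGroup.lift_ext _ _ fun X => ?_)
    obtain ⟨X, hX⟩ := X
    change ψ₀ (FreeAbelianGroup.of ⟨X, hle X hX⟩) = _
    rw [hψ₀ X _ 0 hX]
    change KZero.clSub P₀ X = _
    rw [KZero.clSub, dif_pos hX]
    rfl
  have hsurj : ∀ n X (hX : P₁ X), Res P₀ P₁ n X →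
      (QuotientAddGroup.mk (FreeAbelianGroup.of ⟨X, hX⟩) : KZero.K0sub P₁) ∈
        (SGA6.mapSub (𝟭 C) P₀ P₁ hle).range := by
    intro n
    induction n with
    | zero => exact fun X hX h => ⟨_, hmap X h⟩
    | succ n ih =>
      rintro X hX ⟨-, K, L, i, π, w, hS, hL, hK⟩
      have hK₁ : P₁ K := res_le H n K hK
      have e : (QuotientAddGroup.mk (FreeAbelianGroup.of ⟨X, hX⟩) : KZero.K0sub P₁) =
          QuotientAddGroup.mk (FreeAbelianGroup.of ⟨L, hle L hL⟩) -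
            QuotientAddGroup.mk (FreeAbelianGroup.of ⟨K, hK₁⟩) := by
        rw [eq_comm, ← QuotientAddGroup.mk_sub, ← sub_eq_zero, ← QuotientAddGroup.mk_sub,
          QuotientAddGroup.eq_zero_iff]
        exact AddSubgroup.subset_closure ⟨ShortComplex.mk i π w, hK₁, hle L hL, hX, hS, rfl⟩
      rw [e]
      exact sub_mem ⟨_, hmap L hL⟩ (ih K hK₁ hK)
  refine ⟨Function.LeftInverse.injective (g := ψ) (DFunLike.congr_fun hleft), fun x => ?_⟩
  obtain ⟨x, rfl⟩ := QuotientAddGroup.mk_surjective x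
  change (QuotientAddGroup.mk x : KZero.K0sub P₁) ∈ (SGA6.mapSub (𝟭 C) P₀ P₁ hle).range
  induction x using FreeAbelianGroup.induction_on with
  | zero => exact zero_mem _
  | of X => exact hsurj _ X.1 X.2 (hN X.1 X.2)
  | neg X h => exact neg_mem h
  | add x y hx hy => exact add_mem hx hy

/-- A resolution of finite length from one infinite resolution. -/
theorem exists_res (H : Hyp P₀ P₁)
    (h3 : ∀ A : C, P₁ A → ∃ d : ℕ, ∀ L : ChainComplex C ℕ, (∀ i, P₀ (L.X i)) → (∀ i, 1 ≤ i → L.ExactAt i) →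
      Nonempty (L.homology 0 ≅ A) → P₀ (L.cycles (d + 1)))
    (A : C) (hA : P₁ A) : ∃ n, Res P₀ P₁ n A := by
  have := H.iso₀
  have hcov : ∀ Z : {Z : C // P₁ Z}, ∃ (L : C) (π : L ⟶ Z.1), P₀ L ∧ Epi π := fun Z => by
    obtain ⟨L, u', -, hL, hu', -⟩ := H.h2 Z.1 Z.1 Z.1 (𝟙 _) (𝟙 _) inferInstance Z.2 Z.2 Z.2
    exact ⟨L, u', hL, hu'⟩
  choose L π hL hπ using hcov
  let next : {Z : C // P₁ Z} → {Z : C // P₁ Z} := fun Z => ⟨kernel (π Z),
    have := hπ Z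
    H.h1₁ _ (shortExact_kernel (π Z)) (H.hle _ (hL Z)) Z.2⟩
  let Z : ℕ → {Z : C // P₁ Z} := fun n => Nat.rec ⟨A, hA⟩ (fun _ z => next z) n
  let ι : ∀ n, (Z (n + 1)).1 ⟶ L (Z n) := fun n => kernel.ι (π (Z n))
  let d : ∀ n, L (Z (n + 1)) ⟶ L (Z n) := fun n => π (Z (n + 1)) ≫ ι n
  have hι : ∀ n, ι n ≫ π (Z n) = 0 := fun n => kernel.condition _
  let Lc : ChainComplex C ℕ := ChainComplex.of (fun n => L (Z n)) d fun n => by
    change (π (Z (n + 1 + 1)) ≫ ι (n + 1)) ≫ π (Z (n + 1)) ≫ ι n = 0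
    rw [Category.assoc, reassoc_of% (hι (n + 1)), zero_comp, comp_zero]
  have hd : ∀ n, Lc.d (n + 1) n = d n := fun n => by exact ChainComplex.of_d (fun n => L (Z n)) d n
  have hmono : ∀ n, Mono (ι n) := fun n => inferInstanceAs (Mono (kernel.ι _))
  have hepi : ∀ n, Epi (π (Z n)) := fun n => hπ _
  have hker : ∀ n, IsLimit (KernelFork.ofι (f := Lc.d (n + 1) n) (ι (n + 1))
      (show ι (n + 1) ≫ Lc.d (n + 1) n = 0 by
        rw [hd]; change ι (n + 1) ≫ π (Z (n + 1)) ≫ ι n = 0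
        exact (Category.assoc _ _ _).symm.trans ((congrArg (· ≫ ι n) (hι (n + 1))).trans zero_comp))) := fun n =>
    isKernelCompMono (kernelIsKernel (π (Z (n + 1)))) (ι n) (hd n)
  have hex : ∀ i, 1 ≤ i → Lc.ExactAt i := by
    intro i hi
    obtain ⟨n, rfl⟩ := Nat.exists_eq_add_of_le' hi
    rw [HomologicalComplex.exactAt_iff' Lc (n + 2) (n + 1) n (ChainComplex.prev ℕ (n + 1))
      (ChainComplex.next_nat_succ n)]
    rw [ShortComplex.exact_iff_exact_up_to_refinements]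
    intro T x hx
    obtain ⟨y, hy⟩ := KernelFork.IsLimit.lift' (hker n) x hx
    obtain ⟨T', r, hr, z, hz⟩ := surjective_up_to_refinements_of_epi (π (Z (n + 2))) y
    refine ⟨T', r, hr, z, ?_⟩
    rw [← hy]
    exact (Category.assoc _ _ _).symm.trans ((congrArg (· ≫ ι (n + 1)) hz).trans
      ((Category.assoc _ _ _).trans (congrArg (z ≫ ·) (hd (n + 1)).symm)))
  have hco : IsColimit (CokernelCofork.ofπ (f := Lc.d 1 0) (π (Z 0))
      (by rw [hd]; change (π (Z 1) ≫ ι 0) ≫ π (Z 0) = 0; rw [Category.assoc, hι, comp_zero])) :=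
    isCokernelEpiComp (shortExact_kernel (π (Z 0))).gIsCokernel (π (Z 1)) (hd 0)
  obtain ⟨m, hm⟩ := h3 A hA
  have hcyc := hm Lc (fun i => hL (Z i)) hex ⟨Lc.isoHomologyι₀ ≪≫
    IsColimit.coconePointUniqueUpToIso (Lc.opcyclesIsCokernel 1 0 (ChainComplex.prev ℕ 0)) hco⟩
  have hZ : P₀ (Z (m + 2)).1 := by
    have e := IsLimit.conePointUniqueUpToIso
      (Lc.cyclesIsKernel (m + 1) m (ChainComplex.next_nat_succ m)) (hker m)
    exact P₀.prop_of_iso e hcyc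
  have down : ∀ j, j ≤ m + 2 → Res P₀ P₁ j (Z (m + 2 - j)).1 := by
    intro j
    induction j with
    | zero => exact fun _ => hZ
    | succ j ih =>
      intro hj
      have h := ih (by omega)
      rw [show m + 2 - j = (m + 2 - (j + 1)) + 1 by omega] at h
      exact ⟨(Z _).2, _, L (Z (m + 2 - (j + 1))), _, π _, kernel.condition _,
        shortExact_kernel (π (Z (m + 2 - (j + 1)))), hL _, h⟩
  have := down (m + 2) le_rfl
  rw [Nat.sub_self] at this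
  exact ⟨m + 2, this⟩

end Groth.Agent.KResol
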